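import Cfsg.Agent.H194.Pw.Six
import Cfsg.Agent.H934.MF.TwoS

/-!
# `E₆(2)`, `E₆(3)`: products of two elements of order prime to `6` (S2465), from the corner and from `SL₅(q)`

* `Corner K` : every `g ≠ 1` is conjugate to `v l u`, `v ∈ VNJ`, `u ∈ VJ`, `J = {0, 1, 2, 3, 5}`, and `l` in the
  group generated by the root groups of the block `{0, 1, 2, 3}`;
* `A5 K` : every element `≠ 1` of `SL₅(K)` is a product of two elements with irreducible characteristic polynomials;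
* `six_small` : `All 6 (E₆(K))` from `Corner K` and `A5 K`.
-/

set_option autoImplicit false
set_option linter.unusedSectionVars false

namespace Cfsg.Agent.H150.Pw

open CoxeterSystem Cfsg.Agent.ChevalleyStructure.CoxeterGeom Cfsg.Agent.Tits.Roots Cfsg.Agent.Tits.Core
  Cfsg.Agent.Nodes.Reps Cfsg.Agent.Nodes.BNOf Cfsg.Agent.Nodes.RGDLib Cfsg.Agent.Nodes.Bruhat
  Cfsg.Agent.Nodes.OppDec Cfsg.Agent.Nodes.LeviDec Cfsg.Agent.Nodes.KindChev Cfsg.Agent.Nodes.ChevCls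
  Cfsg.Agent.OddHalf.NI.ModelChev Cfsg.Agent.Nodes.StabComb
  Cfsg.Agent.H162.GaussDec Cfsg.Agent.H162.GaussLevi Cfsg.Agent.H162.GaussSL Cfsg.Agent.H162.GaussReg
  Cfsg.Agent.H162.GaussPQ
  Cfsg.Agent.H928.Ore.Frame
open Cfsg.Lie Cfsg.Agent.ChevalleyStructure Cfsg.Agent.ChevalleyStructure.Elts
  Cfsg.Agent.ChevalleyStructure.RootVec Cfsg.Agent.ChevalleyStructure.NPerm
  Cfsg.Agent.ChevalleyStructure.CoxeterGeomTypes Cfsg.Agent.Nodes.RGDChev Cfsg.Agent.KFacts.RgdChevCoord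
open Cfsg.Agent.H150.E6T (hp6 cs6)
open Cfsg.Agent.H78.Pw Cfsg.Agent.H85.Pw Cfsg.Agent.H194.Pw
open Cfsg.Agent.H162.GaussExc (coord)

universe u

theorem sub4 : ∀ q < chevE6.nroots, vec chevE6 6 q 4 = 0 → vec chevE6 6 q 5 = 0 →
    ∃ a b : Fin 5, a ≠ b ∧ r5 a b = q := by
  intro q hq
  revert q
  refine @of_decide_eq_true _ ?_ ?_
  · refine @Nat.decidableBallLT _ _ fun q _ => ?_
    refine @instDecidableForall _ _ inferInstance ?_
    refine @instDecidableForall _ _ inferInstance ?_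
    refine @Fintype.decidableExistsFintype _ _ (fun a => ?_) _
    refine @Fintype.decidableExistsFintype _ _ (fun b => ?_) _
    infer_instance
  · decide +kernel

section

variable {K : Type u} [Field K]

/-- the group of the block `{0, 1, 2, 3}` -/
theorem sup_le_range : RGD.Sup (XX chevE6 6 K) {r | IsRoot cs6 hp6.isCartan r ∧ r 4 = 0 ∧ r 5 = 0} ≤
    (phi5 K).range := by
  refine RGD.Sup_le fun x hx => ?_
  obtain ⟨q, hq, rfl⟩ := (isRoot_iff hp6 _ x).1 hx.1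
  intro y hy
  obtain ⟨c, rfl⟩ := (mem_XX hp6 hq _).1 hy
  obtain ⟨a, b, hab, rfl⟩ := sub4 q hq hx.2.1 hx.2.2
  refine ⟨Matrix.SpecialLinearGroup.transvection hab (((s5 a b : ℤ) : K) * c), ?_⟩
  rw [phi5_tv, s5_sq]

/-- every `g ≠ 1` is conjugate to an element of the cell whose `A₁`-component is trivial -/
def Corner (K : Type u) [Field K] : Prop :=
  ∀ g : ↥(chevE6.group K), g ≠ 1 → ∃ x, ∃ v ∈ VNJ cs6 hp6.isCartan (XX chevE6 6 K) {k | k ∈ J5},
    ∃ l ∈ RGD.Sup (XX chevE6 6 K) {r | IsRoot cs6 hp6.isCartan r ∧ r 4 = 0 ∧ r 5 = 0},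
    ∃ u ∈ VJ cs6 hp6.isCartan (XX chevE6 6 K) {k | k ∈ J5}, x * g * x⁻¹ = v * l * u

/-- every element `≠ 1` of `SL₅(K)` is a product of two elements with irreducible characteristic polynomials -/
def A5 (K : Type u) [Field K] : Prop :=
  ∀ A : Matrix.SpecialLinearGroup (Fin 5) K, A ≠ 1 → ∃ X Y : Matrix.SpecialLinearGroup (Fin 5) K, A = X * Y ∧
    Irreducible (X : Matrix (Fin 5) (Fin 5) K).charpoly ∧ Irreducible (Y : Matrix (Fin 5) (Fin 5) K).charpoly

theorem A5.ne : (1 : Matrix.SpecialLinearGroup (Fin 5) K) ≠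
    Matrix.SpecialLinearGroup.transvection (show (0 : Fin 5) ≠ 1 by decide) 1 := by
  intro h
  have h1 : (1 : Matrix.SpecialLinearGroup (Fin 5) K).1 0 1 =
      (Matrix.SpecialLinearGroup.transvection (show (0 : Fin 5) ≠ 1 by decide) (1 : K)).1 0 1 := by rw [← h]
  have h2 : (Matrix.SpecialLinearGroup.transvection (show (0 : Fin 5) ≠ 1 by decide) (1 : K)).1 =
      Matrix.transvection 0 1 1 := rfl
  rw [h2] at h1
  simp [Matrix.transvection] at h1

theorem A5.exists_pair (h5 : A5 K) (A : Matrix.SpecialLinearGroup (Fin 5) K) :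
    ∃ X Y : Matrix.SpecialLinearGroup (Fin 5) K, A = X * Y ∧
      Irreducible (X : Matrix (Fin 5) (Fin 5) K).charpoly ∧
      (Irreducible (Y : Matrix (Fin 5) (Fin 5) K).charpoly ∨
        Irreducible ((Y⁻¹ : Matrix.SpecialLinearGroup (Fin 5) K) : Matrix (Fin 5) (Fin 5) K).charpoly) := by
  by_cases h : A = 1
  · obtain ⟨X, -, -, hX, -⟩ := h5 _ (A5.ne (K := K)).symm
    exact ⟨X, X⁻¹, by rw [h, mul_inv_cancel], hX, Or.inr (by rwa [inv_inv])⟩
  · obtain ⟨X, Y, h1, hX, hY⟩ := h5 A h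
    exact ⟨X, Y, h1, hX, Or.inl hY⟩

theorem nf_inv {Y : Type*} [Group Y] {V : Subgroup Y} {c : Y} (h : NF V c⁻¹) : NF V c := by
  intro x hx e
  refine h x hx ?_
  rw [inv_inv]
  calc c⁻¹ * x * c = c⁻¹ * (c * x * c⁻¹) * c := by rw [e]
    _ = x := by group

theorem pairs_small [Finite K] (hC : Corner K) (h5 : A5 K) (g : ↥(chevE6.group K)) :
    ∃ a b : ↥(chevE6.group K), g = a * b ∧
      a ^ (∑ a ∈ Finset.range 5, Nat.card K ^ a) = 1 ∧ b ^ (∑ a ∈ Finset.range 5, Nat.card K ^ a) = 1 := by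
  obtain ⟨N, hN⟩ : ∃ N, N = ∑ a ∈ Finset.range 5, Nat.card K ^ a := ⟨_, rfl⟩
  rw [← hN]
  by_cases hg : g = 1
  · exact ⟨1, 1, by rw [hg]; simp, one_pow _, one_pow _⟩
  obtain ⟨p, hpc⟩ := CharP.exists K
  have := Fintype.ofFinite K
  have : Fact p.Prime := ⟨(CharP.char_is_prime_or_zero K p).resolve_right (CharP.char_ne_zero_of_finite K p)⟩
  have := finite_W hp6 cs6
  have R := rgd (K := K) hp6 cs6 p
  have hord : ∀ X : Matrix.SpecialLinearGroup (Fin 5) K,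
      Irreducible (X : Matrix (Fin 5) (Fin 5) K).charpoly → phi5 K X ^ N = 1 := by
    intro X hX
    have h3 := irr_pow hX
    rw [← hN] at h3
    rw [← map_pow, h3, map_one]
  have hnf : ∀ X : Matrix.SpecialLinearGroup (Fin 5) K,
      Irreducible (X : Matrix (Fin 5) (Fin 5) K).charpoly →
      NF (VJ cs6 hp6.isCartan (XX chevE6 6 K) {k | k ∈ J5}) (phi5 K X) ∧
        NF (VNJ cs6 hp6.isCartan (XX chevE6 6 K) {k | k ∈ J5}) (phi5 K X) := by
    intro X hX
    have h := nf_six hX (x := 1) (one_pow _)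
    rwa [Phi5_A] at h
  obtain ⟨x, v, hv, l, hl, u, hu, e⟩ := hC g hg
  obtain ⟨A, rfl⟩ := sup_le_range hl
  obtain ⟨X, Y, rfl, hX, hY⟩ := h5.exists_pair A
  have hY1 : NF (VJ cs6 hp6.isCartan (XX chevE6 6 K) {k | k ∈ J5}) (phi5 K Y) ∧ phi5 K Y ^ N = 1 := by
    rcases hY with hY | hY
    · exact ⟨(hnf Y hY).1, hord Y hY⟩
    · refine ⟨nf_inv ?_, ?_⟩
      · rw [← map_inv]; exact (hnf _ hY).1
      · have := hord _ hY
        rwa [map_inv, inv_pow, inv_eq_one] at this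
  obtain ⟨a, ha, e1⟩ := exists_conj_of_fix R (LJ_le_normalizer_VNJ R {k | k ∈ J5} (phi5_mem X)) (hnf X hX).2 hv
  have hu' : phi5 K Y * u * (phi5 K Y)⁻¹ ∈ VJ cs6 hp6.isCartan (XX chevE6 6 K) {k | k ∈ J5} :=
    (Subgroup.mem_normalizer_iff.1 (LJ_le_normalizer_VJ R {k | k ∈ J5} (phi5_mem Y)) u).1 hu
  obtain ⟨b, hb, e2⟩ := exists_conj_of_fix R (LJ_le_normalizer_VJ R {k | k ∈ J5} (phi5_mem Y)) hY1.1 hu'
  have e3 : x * g * x⁻¹ = (a * phi5 K X * a⁻¹) * (b * phi5 K Y * b⁻¹) := by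
    rw [e, ← e1, ← e2, map_mul]
    group
  refine ⟨x⁻¹ * (a * phi5 K X * a⁻¹) * x⁻¹⁻¹, x⁻¹ * (b * phi5 K Y * b⁻¹) * x⁻¹⁻¹, ?_, ?_, ?_⟩
  · calc g = x⁻¹ * (x * g * x⁻¹) * x := by group
      _ = _ := by rw [e3]; group
  · rw [conj_pow, conj_pow, hord X hX]; group
  · rw [conj_pow, conj_pow, hY1.2]; group

theorem A5.congr {K' : Type} [Field K'] (σ : K' ≃+* K) (h : A5 K') : A5 K := by
  intro A hA
  have hne : (A.map (σ.symm : K →+* K') : Matrix.SpecialLinearGroup (Fin 5) K') ≠ 1 := by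
    intro h1
    apply hA
    have h2 : A.1.map σ.symm = 1 := congrArg Subtype.val h1
    have h3 : (A.1.map σ.symm).map σ = (1 : Matrix (Fin 5) (Fin 5) K').map σ := by rw [h2]
    rw [Matrix.map_map, Matrix.map_one σ (map_zero σ) (map_one σ)] at h3
    refine Subtype.ext ?_
    rw [Matrix.SpecialLinearGroup.coe_one, ← h3]
    ext i j
    simp
  obtain ⟨X, Y, e, hX, hY⟩ := h _ hne
  have key : ∀ Z : Matrix.SpecialLinearGroup (Fin 5) K', Irreducible (Z : Matrix (Fin 5) (Fin 5) K').charpoly →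
      Irreducible ((Z.map (σ : K' →+* K) : Matrix.SpecialLinearGroup (Fin 5) K) : Matrix (Fin 5) (Fin 5) K).charpoly := by
    intro Z hZ
    have h1 : ((Z.map (σ : K' →+* K) : Matrix.SpecialLinearGroup (Fin 5) K) : Matrix (Fin 5) (Fin 5) K).charpoly =
        Z.1.charpoly.map (σ : K' →+* K) := Matrix.charpoly_map Z.1 (σ : K' →+* K)
    rw [h1]
    exact (MulEquiv.irreducible_iff (Polynomial.mapEquiv σ)).2 hZ
  refine ⟨X.map (σ : K' →+* K), Y.map (σ : K' →+* K), ?_, key X hX, key Y hY⟩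
  rw [← map_mul, ← e]
  ext i j
  simp

theorem zmod_one : ∀ x : ZMod 2, x ≠ 0 → x = 1 := by decide

theorem a5_two (hK : Nat.card K = 2) : A5 K := by
  have : Finite K := Nat.finite_of_card_ne_zero (by rw [hK]; norm_num)
  have := Fintype.ofFinite K
  have : Fact (Nat.Prime 2) := ⟨Nat.prime_two⟩
  refine A5.congr (ZMod.ringEquivOfPrime K Nat.prime_two (by rw [← Nat.card_eq_fintype_card, hK])) ?_
  intro A hA
  obtain ⟨X, Y, e, hX, hY⟩ := Cfsg.Agent.H934.MF.prodFive A.1 (by rw [A.2]; exact one_ne_zero)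
    (fun h => hA (Subtype.ext h))
  have hd : X.det * Y.det = 1 := by rw [← Matrix.det_mul, ← e, A.2]
  exact ⟨⟨X, zmod_one _ (left_ne_zero_of_mul_eq_one hd)⟩, ⟨Y, zmod_one _ (right_ne_zero_of_mul_eq_one hd)⟩, Subtype.ext e,
    by change Irreducible X.charpoly; rw [hX]; exact Cfsg.Agent.H934.MF.irrFive,
    by change Irreducible Y.charpoly; rw [hY]; exact Cfsg.Agent.H934.MF.irrFive⟩

/-- from the form of helper126 -/
theorem a5_three_of [Finite K] (hK : Nat.card K = 3) (h : ∀ A : Matrix (Fin 5) (Fin 5) K, A.det = 1 →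
    (∀ c : K, A ≠ c • (1 : Matrix (Fin 5) (Fin 5) K)) → ∃ X Y : Matrix (Fin 5) (Fin 5) K, A = X * Y ∧
      Irreducible X.charpoly ∧ Irreducible Y.charpoly ∧ X ^ 121 = 1 ∧ Y ^ 121 = 1) : A5 K := by
  have := Fintype.ofFinite K
  have hc : ∀ x : K, x ^ 121 = 1 → x = 1 := by
    intro x hx
    have hx0 : x ≠ 0 := by rintro rfl; simp at hx
    have h2 : x ^ 2 = 1 := by
      have := FiniteField.pow_card_sub_one_eq_one x hx0
      rwa [← Nat.card_eq_fintype_card, hK] at this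
    calc x = (x ^ 2) ^ 60 * x := by rw [h2, one_pow, one_mul]
      _ = x ^ 121 := by rw [← pow_mul, ← pow_succ]
      _ = 1 := hx
  have hc5 : ∀ x : K, x ^ 5 = 1 → x = 1 := by
    intro x hx
    have hx0 : x ≠ 0 := by rintro rfl; simp at hx
    have h2 : x ^ 2 = 1 := by
      have := FiniteField.pow_card_sub_one_eq_one x hx0
      rwa [← Nat.card_eq_fintype_card, hK] at this
    calc x = (x ^ 2) ^ 2 * x := by rw [h2, one_pow, one_mul]
      _ = x ^ 5 := by rw [← pow_mul, ← pow_succ]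
      _ = 1 := hx
  intro A hA
  obtain ⟨X, Y, e, hX, hY, hX1, hY1⟩ := h A.1 A.2 (fun c hc' => by
    apply hA
    have h1 : (c • (1 : Matrix (Fin 5) (Fin 5) K)).det = 1 := by rw [← hc', A.2]
    rw [Matrix.det_smul, Matrix.det_one, mul_one, Fintype.card_fin] at h1
    refine Subtype.ext ?_
    rw [hc', hc5 c h1, one_smul]
    rfl)
  have hd : ∀ Z : Matrix (Fin 5) (Fin 5) K, Z ^ 121 = 1 → Z.det = 1 := by
    intro Z hZ
    apply hc
    rw [← Matrix.det_pow, hZ, Matrix.det_one]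
  exact ⟨⟨X, hd X hX1⟩, ⟨Y, hd Y hY1⟩, Subtype.ext e, hX, hY⟩

/-- **`E₆(2)`, `E₆(3)`** : every element is a product of two elements of order prime to `6`. -/
theorem six_small [Finite K] (hC : Corner K) (h5 : A5 K) : All 6 ↥(chevE6.group K) :=
  all_of_pairs (sum5_coprime _) (pairs_small hC h5)

end

end Cfsg.Agent.H150.Pw
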